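import Mathlib
import Cfsg.Prelude.Def_GeometricClasses
import Cfsg.Agent.Lib.Lead.BCS.Defs
import Cfsg.Agent.S0246

set_option autoImplicit false

/-!
# Project BCG (designer lead): definitions for S2474 (10u).
`PΩ_{2n+1}(q)` and `PSp_{2n}(q)`, `q` odd, `n ≥ 3`, have the same prime graph: for distinct primes `r`, `s` the number `r s` is an element order of
one iff of the other.

Vocabulary reused: helper13's S5955 (`SCtx`, `stdB`, `SND`, `SOrth`, `SInv`, `fixS`, `cycS`), helper15's S5972 (`OCtx`, `stdO`, `altB`, `OS2`),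
helper18's ONE (`OTy`), project BCS (`OrdC`).
-/

namespace Cfsg.Agent.Lib.Lead.BCG

open Polynomial Module Cfsg.Agent.Lib.Helper13.S5955 Cfsg.Agent.Lib.helper15.S5972
  Cfsg.Agent.Lib.Helper18.ONE Cfsg.Agent.Lib.Lead.BCS

/-- `c(s) = i` for `i = ord_s q` even, `2 i` for `i` odd: the least dimension of a nondegenerate (symplectic or orthogonal) space over `F_q`
with a fixed-point-free isometry of order `s` -/
noncomputable def cOf (q s : ℕ) : ℕ :=
  if Even (orderOf ((q : ℕ) : ZMod s)) then orderOf ((q : ℕ) : ZMod s)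
  else 2 * orderOf ((q : ℕ) : ZMod s)

/-- the criterion for `p s` (`s ∉ {2, p}`) in both groups -/
def CritP (q n s : ℕ) : Prop := cOf q s + 2 ≤ 2 * n

/-- the criterion for `2 s` (`s ∉ {2, p}`) in both groups -/
def Crit2 (q n s : ℕ) : Prop :=
  cOf q s + 2 ≤ 2 * n ∨
    (cOf q s = 2 * n ∧ (Odd (orderOf ((q : ℕ) : ZMod s)) ↔ q ^ n % 4 = 1))

theorem cof_of_ordc {q n s : ℕ} (h : OrdC q n s) : cOf q s = 2 * n := by
  unfold cOf
  exact (ordc_c h).symm

theorem ordc_of_cof {q n s : ℕ} (h : cOf q s = 2 * n) : OrdC q n s := by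
  unfold cOf at h
  by_cases he : Even (orderOf ((q : ℕ) : ZMod s))
  · rw [if_pos he] at h
    exact Or.inl h
  · rw [if_neg he] at h
    refine Or.inr ⟨by omega, ?_⟩
    have : orderOf ((q : ℕ) : ZMod s) = n := by omega
    rw [← this]
    exact Nat.not_even_iff_odd.mp he

variable {F : Type*} [Field F]

/-- `N` is the order of an element of `Ω_{2d+1}(F) ≤ GL` -/
def InO (d : ℕ) (F : Type*) [Field F] (N : ℕ) : Prop :=
  ∃ X : GL (Unit ⊕ (Fin d ⊕ Fin d)) F, X ∈ Cfsg.Geo.omegaGL (Cfsg.quadFormOdd d F) ∧ orderOf X = N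

variable {V : Type*} [AddCommGroup V] [Module F V] {V' : Type*} [AddCommGroup V'] [Module F V']

/-- the part of `V` on which `x` (with `x ^ N = 1`) has no fixed vector: `ker (1 + x + ⋯ + x ^ (N - 1))`;
for `N` prime this is `cycS N x` -/
noncomputable def geoS (N : ℕ) (x : Module.End F V) : Submodule F V :=
  LinearMap.ker (aeval x (∑ j ∈ Finset.range N, (X : F[X]) ^ j))

/-- `x` and `y` have the same powers equal to `1` (so the same order) -/
def SameOrd (x : Module.End F V) (y : Module.End F V') : Prop := ∀ k : ℕ, x ^ k = 1 ↔ y ^ k = 1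

theorem geoS_prime (r : ℕ) [Fact r.Prime] (x : Module.End F V) : geoS r x = cycS r x := by
  unfold geoS cycS
  rw [cyclotomic_prime]

end Cfsg.Agent.Lib.Lead.BCG
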